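import Mathlib

/-! Generic points of fibres and the length of the fibre ring. Author: helper54. -/

set_option autoImplicit false
universe u

open CategoryTheory AlgebraicGeometry IsLocalRing

namespace Groth.CycleLimits

variable {X Y : Scheme.{u}} (f : X ⟶ Y) (z : X)

/-- `z` is a generic point of its fibre. -/
def IsFibreGeneric : Prop := ∀ y : X, f y = f z → y ⤳ z → y = z

/-- The ideal of the fibre in the local ring. -/
noncomputable abbrev fibreIdeal : Ideal (X.presheaf.stalk z) :=
  (maximalIdeal (Y.presheaf.stalk (f z))).map (f.stalkMap z).hom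

lemma fibreIdeal_ne_top : fibreIdeal f z ≠ ⊤ :=
  ne_top_of_le_ne_top (maximalIdeal.isMaximal _).ne_top
    (((IsLocalRing.local_hom_TFAE (f.stalkMap z).hom).out 0 2).mp
      (inferInstance : IsLocalHom (f.stalkMap z).hom))

lemma fibreIdeal_le_iff (Q : PrimeSpectrum (X.presheaf.stalk z)) :
    fibreIdeal f z ≤ Q.asIdeal ↔ f ((X.fromSpecStalk z) Q) = f z := by
  have hcomm : f ((X.fromSpecStalk z) Q) =
      (Y.fromSpecStalk (f z)) (Q.comap (f.stalkMap z).hom) :=
    (congr($(Scheme.SpecMap_stalkMap_fromSpecStalk (f := f) (x := z)) Q)).symm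
  rw [hcomm, Ideal.map_le_iff_le_comap]
  constructor
  · intro h
    have : Q.comap (f.stalkMap z).hom = closedPoint _ := PrimeSpectrum.ext
      ((maximalIdeal.isMaximal _).eq_of_le (Q.isPrime.comap _).ne_top h).symm
    rw [this]; exact Scheme.fromSpecStalk_closedPoint
  · intro h
    have : Q.comap (f.stalkMap z).hom = closedPoint _ :=
      (Y.fromSpecStalk (f z)).isEmbedding.injective (h.trans Scheme.fromSpecStalk_closedPoint.symm)
    exact (congrArg PrimeSpectrum.asIdeal this).ge

lemma isFibreGeneric_iff : IsFibreGeneric f z ↔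
    ∀ Q : PrimeSpectrum (X.presheaf.stalk z), fibreIdeal f z ≤ Q.asIdeal → Q.asIdeal.IsMaximal := by
  constructor
  · intro h Q hQ
    have h1 : (X.fromSpecStalk z) Q = z :=
      h _ ((fibreIdeal_le_iff f z Q).mp hQ) (Scheme.range_fromSpecStalk.le ⟨Q, rfl⟩)
    have : Q = closedPoint _ :=
      (X.fromSpecStalk z).isEmbedding.injective (h1.trans Scheme.fromSpecStalk_closedPoint.symm)
    rw [this]; exact maximalIdeal.isMaximal _
  · intro h y hy hsp
    obtain ⟨Q, hQ⟩ : y ∈ Set.range (X.fromSpecStalk z) := Scheme.range_fromSpecStalk.ge hsp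
    subst hQ
    have := h Q ((fibreIdeal_le_iff f z Q).mpr hy)
    have : Q = closedPoint _ := PrimeSpectrum.ext (eq_maximalIdeal this)
    rw [this]; exact Scheme.fromSpecStalk_closedPoint

lemma exists_isFibreGeneric [IsLocallyNoetherian X] :
    ∃ y : X, y ⤳ z ∧ f y = f z ∧ IsFibreGeneric f y := by
  have : (fibreIdeal f z).minimalPrimes.Nonempty := by
    obtain ⟨Q, hQ, -⟩ := Ideal.exists_minimalPrimes_le
      (show fibreIdeal f z ≤ maximalIdeal _ from le_maximalIdeal (fibreIdeal_ne_top f z))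
    exact ⟨Q, hQ⟩
  obtain ⟨Q, hQ⟩ := this
  let Q' : PrimeSpectrum (X.presheaf.stalk z) := ⟨Q, hQ.1.1⟩
  have hf : f ((X.fromSpecStalk z) Q') = f z := (fibreIdeal_le_iff f z Q').mp hQ.1.2
  have hsp : (X.fromSpecStalk z) Q' ⤳ z := Scheme.range_fromSpecStalk.le ⟨Q', rfl⟩
  refine ⟨_, hsp, hf, fun y hy hys => ?_⟩
  obtain ⟨P, rfl⟩ : y ∈ Set.range (X.fromSpecStalk z) :=
    Scheme.range_fromSpecStalk.ge (hys.trans hsp)
  have hP : fibreIdeal f z ≤ P.asIdeal := (fibreIdeal_le_iff f z P).mpr (hy.trans hf)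
  have hle : P.asIdeal ≤ Q := (PrimeSpectrum.le_iff_specializes (P : PrimeSpectrum _) Q').mpr
    ((X.fromSpecStalk z).isEmbedding.toIsInducing.specializes_iff.mp hys)
  rw [show P = Q' from PrimeSpectrum.ext (le_antisymm hle (hQ.2 ⟨P.isPrime, hP⟩ hle))]

lemma length_toNat_eq_zero_of_not [IsLocallyNoetherian X] (h : ¬ IsFibreGeneric f z) :
    (Module.length (X.presheaf.stalk z) (X.presheaf.stalk z ⧸ fibreIdeal f z)).toNat = 0 := by
  rw [isFibreGeneric_iff] at h
  suffices Module.length (X.presheaf.stalk z) (X.presheaf.stalk z ⧸ fibreIdeal f z) = ⊤ by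
    rw [this]; rfl
  by_contra hne
  obtain ⟨-, ha⟩ := isFiniteLength_iff_isNoetherian_isArtinian.mp (Module.length_ne_top_iff.mp hne)
  have : IsArtinianRing (X.presheaf.stalk z ⧸ fibreIdeal f z) := isArtinian_of_tower _ ha
  refine h fun Q hQ => ?_
  have hp := Ideal.map_isPrime_of_surjective (f := Ideal.Quotient.mk (fibreIdeal f z))
    Ideal.Quotient.mk_surjective (I := Q.asIdeal) (by simpa using hQ)
  have hm := (IsArtinianRing.isPrime_iff_isMaximal _).mp hp
  have := Ideal.comap_isMaximal_of_surjective (Ideal.Quotient.mk (fibreIdeal f z))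
    Ideal.Quotient.mk_surjective (K := Q.asIdeal.map (Ideal.Quotient.mk (fibreIdeal f z)))
  rwa [Ideal.comap_map_of_surjective _ Ideal.Quotient.mk_surjective, ← RingHom.ker_eq_comap_bot,
    Ideal.mk_ker, sup_of_le_left hQ] at this

lemma length_toNat_ne_zero [IsLocallyNoetherian X] (h : IsFibreGeneric f z) :
    (Module.length (X.presheaf.stalk z) (X.presheaf.stalk z ⧸ fibreIdeal f z)).toNat ≠ 0 := by
  rw [isFibreGeneric_iff] at h
  have : Ring.KrullDimLE 0 (X.presheaf.stalk z ⧸ fibreIdeal f z) := Ring.KrullDimLE.mk₀ fun q hq => by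
    have hq' := h ⟨q.comap (Ideal.Quotient.mk (fibreIdeal f z)), hq.comap _⟩
      (fun a ha => by simp [Ideal.mem_comap, Ideal.Quotient.eq_zero_iff_mem.mpr ha])
    rw [← Ideal.map_comap_of_surjective _ Ideal.Quotient.mk_surjective q]
    refine (Ideal.map_eq_top_or_isMaximal_of_surjective _ Ideal.Quotient.mk_surjective hq').resolve_left ?_
    rw [Ideal.map_comap_of_surjective _ Ideal.Quotient.mk_surjective q]
    exact hq.ne_top
  have : IsArtinianRing (X.presheaf.stalk z ⧸ fibreIdeal f z) :=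
    isArtinianRing_iff_krullDimLE_zero.mpr inferInstance
  have : Nontrivial (X.presheaf.stalk z ⧸ fibreIdeal f z) :=
    Ideal.Quotient.nontrivial_iff.mpr (fibreIdeal_ne_top f z)
  have hne : Module.length (X.presheaf.stalk z) (X.presheaf.stalk z ⧸ fibreIdeal f z) ≠ ⊤ := by
    rw [show Module.length (X.presheaf.stalk z) (X.presheaf.stalk z ⧸ fibreIdeal f z) =
      Module.length (X.presheaf.stalk z ⧸ fibreIdeal f z) _ from
      Module.length_eq_of_surjective Ideal.Quotient.mk_surjective]
    exact Module.length_ne_top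
  intro h0
  rcases ENat.toNat_eq_zero.mp h0 with h1 | h1
  · exact Module.length_pos.ne' h1
  · exact hne h1

lemma length_toNat_eq_one (h : fibreIdeal f z = maximalIdeal (X.presheaf.stalk z)) :
    (Module.length (X.presheaf.stalk z) (X.presheaf.stalk z ⧸ fibreIdeal f z)).toNat = 1 := by
  have : IsSimpleModule (X.presheaf.stalk z) (X.presheaf.stalk z ⧸ fibreIdeal f z) := by
    rw [h]
    exact isSimpleModule_iff_isCoatom.mpr (maximalIdeal.isMaximal _).out
  rw [Module.length_eq_one]
  rfl

end Groth.CycleLimits
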