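import Mathlib

/-! Sections and prime ideals along a cofiltered system with affine transition maps.
Author: helper54. -/

set_option autoImplicit false
universe u

open CategoryTheory AlgebraicGeometry Limits

namespace Groth.CycleLimits

variable {I : Type u} [Category.{u} I] [IsCofiltered I] {D : I ⥤ Scheme.{u}} {c : Cone D}
  [∀ {i j} (f : i ⟶ j), IsAffineHom (D.map f)] {i : I} (U : (D.obj i).Opens)

lemma le_preimage_π (c : Cone D) (U : (D.obj i).Opens) {j : I} (f : j ⟶ i) :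
    c.π.app i ⁻¹ᵁ U ≤ c.π.app j ⁻¹ᵁ (D.map f ⁻¹ᵁ U) :=
  (congr($(c.w f) ⁻¹ᵁ U)).ge

/-- Restriction from stage `f` to the limit. -/
noncomputable def toLim (c : Cone D) (U : (D.obj i).Opens) {j : I} (f : j ⟶ i) :
    Γ(D.obj j, D.map f ⁻¹ᵁ U) ⟶ Γ(c.pt, c.π.app i ⁻¹ᵁ U) :=
  (c.π.app j).appLE _ _ (le_preimage_π c U f)

lemma le_preimage_map {j k : I} (f : j ⟶ i) (g : k ⟶ j) :
    D.map (g ≫ f) ⁻¹ᵁ U ≤ D.map g ⁻¹ᵁ (D.map f ⁻¹ᵁ U) :=
  (congr($(D.map_comp g f) ⁻¹ᵁ U)).le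

/-- Restriction from stage `f` to a later stage. -/
noncomputable def toStage {j k : I} (f : j ⟶ i) (g : k ⟶ j) :
    Γ(D.obj j, D.map f ⁻¹ᵁ U) ⟶ Γ(D.obj k, D.map (g ≫ f) ⁻¹ᵁ U) :=
  (D.map g).appLE _ _ (le_preimage_map U f g)

@[reassoc]
lemma toStage_toLim {j k : I} (f : j ⟶ i) (g : k ⟶ j) :
    toStage U f g ≫ toLim c U (g ≫ f) = toLim c U f := by
  simp [toStage, toLim, Scheme.Hom.appLE_comp_appLE]

lemma app_toStage {j k : I} (f : j ⟶ i) (g : k ⟶ j) :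
    (D.map f).app U ≫ toStage U f g = (D.map (g ≫ f)).app U := by
  simp only [toStage, Scheme.Hom.app_eq_appLE, Scheme.Hom.appLE_comp_appLE]
  simp [← Functor.map_comp]

lemma app_toLim {j : I} (f : j ⟶ i) :
    (D.map f).app U ≫ toLim c U f = (c.π.app i).app U := by
  simp only [toLim, Scheme.Hom.app_eq_appLE, Scheme.Hom.appLE_comp_appLE]
  simp

variable (hc : IsLimit c) (hU : IsAffineOpen U)
include hc hU

lemma exists_toLim_eq (s : Γ(c.pt, c.π.app i ⁻¹ᵁ U)) :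
    ∃ (j : I) (f : j ⟶ i) (t : Γ(D.obj j, D.map f ⁻¹ᵁ U)), toLim c U f t = s := by
  have (j : Over i) : IsAffine ((opensDiagram D i U).obj j) := hU.preimage (D.map _)
  obtain ⟨j, t, hj⟩ := exists_appTop_π_eq_of_isAffine_of_isLimit _ _
    (isLimitOpensCone D c hc i U) ((c.π.app i ⁻¹ᵁ U).topIso.inv s)
  obtain ⟨t, rfl⟩ := (D.map j.hom ⁻¹ᵁ U).topIso.symm.commRingCatIsoToRingEquiv.surjective t
  refine ⟨j.left, j.hom, t, ?_⟩
  have h := congrArg (c.π.app i ⁻¹ᵁ U).topIso.hom hj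
  rw [Iso.inv_hom_id_apply] at h
  rw [← h]
  change toLim c U j.hom t = ((D.map j.hom ⁻¹ᵁ U).topIso.inv ≫ ((opensCone D c i U).π.app j).appTop ≫
    (c.π.app i ⁻¹ᵁ U).topIso.hom) t
  congr 2
  simp [toLim, Scheme.Hom.appTop, Scheme.Hom.app_eq_appLE, Scheme.Opens.topIso_hom, Scheme.Opens.topIso_inv]
  erw [Scheme.Hom.resLE_appLE, Scheme.Hom.appLE_map, Scheme.Hom.map_appLE]

lemma exists_toStage_eq_zero {j : I} (f : j ⟶ i) (b : Γ(D.obj j, D.map f ⁻¹ᵁ U))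
    (hb : toLim c U f b = 0) : ∃ (k : I) (g : k ⟶ j), toStage U f g b = 0 := by
  have hb' : (c.π.app j).app (D.map f ⁻¹ᵁ U) b = 0 := by
    have e : c.π.app j ⁻¹ᵁ (D.map f ⁻¹ᵁ U) ≤ c.π.app i ⁻¹ᵁ U := (congr($(c.w f) ⁻¹ᵁ U)).le
    have h2 : toLim c U f ≫ c.pt.presheaf.map (homOfLE e).op = (c.π.app j).app (D.map f ⁻¹ᵁ U) := by
      simp [toLim, Scheme.Hom.app_eq_appLE, Scheme.Hom.appLE_map]
    rw [← h2, CommRingCat.comp_apply, hb, map_zero]
  obtain ⟨k, g, hg⟩ := exists_app_map_eq_zero_of_isLimit D c hc (hU.preimage _).isCompact b hb'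
  refine ⟨k, g, ?_⟩
  rw [toStage, Scheme.Hom.appLE, CommRingCat.comp_apply, hg, map_zero]

/-- Membership in an extended ideal comes from some stage. -/
lemma exists_mem_map (J : Ideal Γ(D.obj i, U)) (b : Γ(c.pt, c.π.app i ⁻¹ᵁ U))
    (hb : b ∈ J.map ((c.π.app i).app U).hom) :
    ∃ (j : I) (f : j ⟶ i) (t : Γ(D.obj j, D.map f ⁻¹ᵁ U)),
      t ∈ J.map ((D.map f).app U).hom ∧ toLim c U f t = b := by
  have hup : ∀ {j k : I} (f : j ⟶ i) (g : k ⟶ j) (t : Γ(D.obj j, D.map f ⁻¹ᵁ U)),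
      t ∈ J.map ((D.map f).app U).hom → toStage U f g t ∈ J.map ((D.map (g ≫ f)).app U).hom := by
    intro j k f g t ht
    rw [← app_toStage U f g, CommRingCat.hom_comp, ← Ideal.map_map]
    exact Ideal.mem_map_of_mem _ ht
  rw [Ideal.map] at hb
  induction hb using Submodule.span_induction with
  | mem y hy =>
    obtain ⟨a, ha, rfl⟩ := hy
    refine ⟨i, 𝟙 i, (D.map (𝟙 i)).app U a, Ideal.mem_map_of_mem _ ha, ?_⟩
    rw [← CommRingCat.comp_apply, app_toLim]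
  | zero => exact ⟨i, 𝟙 i, 0, zero_mem _, map_zero _⟩
  | add p q _ _ hp hq =>
    obtain ⟨j₁, f₁, t₁, ht₁, rfl⟩ := hp
    obtain ⟨j₂, f₂, t₂, ht₂, rfl⟩ := hq
    obtain ⟨k, g₁, g₂, e⟩ := IsCofiltered.cospan f₁ f₂
    have h₁ := hup f₁ g₁ t₁ ht₁
    have h₂ := hup f₂ g₂ t₂ ht₂
    have l₁ : toLim c U (g₁ ≫ f₁) (toStage U f₁ g₁ t₁) = toLim c U f₁ t₁ := by
      rw [← CommRingCat.comp_apply, toStage_toLim]
    have l₂ : toLim c U (g₂ ≫ f₂) (toStage U f₂ g₂ t₂) = toLim c U f₂ t₂ := by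
      rw [← CommRingCat.comp_apply, toStage_toLim]
    have key : ∀ (f : k ⟶ i) (_ : f = g₂ ≫ f₂) (a : Γ(D.obj k, D.map f ⁻¹ᵁ U))
        (_ : a ∈ J.map ((D.map f).app U).hom),
        ∃ (t : Γ(D.obj k, D.map f ⁻¹ᵁ U)), t ∈ J.map ((D.map f).app U).hom ∧
          toLim c U f t = toLim c U f a + toLim c U f₂ t₂ := by
      rintro f rfl a ha
      exact ⟨a + toStage U f₂ g₂ t₂, add_mem ha h₂, by rw [map_add, l₂]⟩
    obtain ⟨t, ht, hts⟩ := key (g₁ ≫ f₁) e _ h₁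
    exact ⟨k, g₁ ≫ f₁, t, ht, by rw [hts, l₁]⟩
  | smul a p _ hp =>
    obtain ⟨j₁, f₁, t₁, ht₁, rfl⟩ := hp
    obtain ⟨j₂, f₂, t₂, rfl⟩ := exists_toLim_eq U hc hU a
    obtain ⟨k, g₁, g₂, e⟩ := IsCofiltered.cospan f₁ f₂
    have h₁ := hup f₁ g₁ t₁ ht₁
    have key : ∀ (f : k ⟶ i) (_ : f = g₂ ≫ f₂) (a : Γ(D.obj k, D.map f ⁻¹ᵁ U))
        (_ : a ∈ J.map ((D.map f).app U).hom),
        ∃ (t : Γ(D.obj k, D.map f ⁻¹ᵁ U)), t ∈ J.map ((D.map f).app U).hom ∧
          toLim c U f t = toLim c U f₂ t₂ * toLim c U f a := by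
      rintro f rfl a ha
      exact ⟨toStage U f₂ g₂ t₂ * a, Ideal.mul_mem_left _ _ ha, by
        rw [map_mul, ← CommRingCat.comp_apply, toStage_toLim]⟩
    obtain ⟨t, ht, hts⟩ := key (g₁ ≫ f₁) e _ h₁
    exact ⟨k, g₁ ≫ f₁, t, ht, by rw [hts, ← CommRingCat.comp_apply, toStage_toLim]; rfl⟩

omit hU in
/-- A point outside the image of the limit is outside the image of some stage. -/
lemma exists_not_mem_range_of_not_mem_range (x : D.obj i) (hx : x ∉ Set.range (c.π.app i)) :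
    ∃ (j : I) (f : j ⟶ i), x ∉ Set.range (D.map f) := by
  obtain ⟨_, ⟨U, hU, rfl⟩, hxU, -⟩ :=
    (D.obj i).isBasis_affineOpens.exists_subset_of_mem_open (Set.mem_univ x) isOpen_univ
  set W := c.π.app i ⁻¹ᵁ U with hWdef
  have hW : IsAffineOpen W := by
    have := isAffineHom_π_app D c hc i
    exact hU.preimage _
  set P := (hU.primeIdealOf ⟨x, hxU⟩).asIdeal
  let φ := ((c.π.app i).app U).hom
  have hnp : ¬ ((P.map φ).comap φ ≤ P) := by
    intro hle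
    have heq : (P.map φ).comap φ = P := le_antisymm hle Ideal.le_comap_map
    obtain ⟨Q, hQ, hQP⟩ : ∃ Q : Ideal Γ(c.pt, W), Q.IsPrime ∧ Q.comap φ = P :=
      (Ideal.comap_map_eq_self_iff_of_isPrime (f := φ) P).mp heq
    let q : PrimeSpectrum Γ(c.pt, W) := ⟨Q, hQ⟩
    apply hx
    refine ⟨hW.fromSpec q, ?_⟩
    have h1 : (Spec.map ((c.π.app i).app U) ≫ hU.fromSpec) q = (hW.fromSpec ≫ c.π.app i) q := by
      rw [Scheme.Hom.app_eq_appLE, IsAffineOpen.SpecMap_appLE_fromSpec _ hU hW]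
    rw [Scheme.Hom.comp_apply, Scheme.Hom.comp_apply] at h1
    rw [← h1]
    have h2 : (Spec.map ((c.π.app i).app U)) q = hU.primeIdealOf ⟨x, hxU⟩ := PrimeSpectrum.ext hQP
    rw [h2]
    exact hU.fromSpec_primeIdealOf _
  obtain ⟨s, hs, hsP⟩ := SetLike.not_le_iff_exists.mp hnp
  obtain ⟨j, f, t, ht, hts⟩ := exists_mem_map U hc hU P _ (Ideal.mem_comap.mp hs)
  have h0 : toLim c U f ((D.map f).app U s - t) = 0 := by
    rw [map_sub, ← CommRingCat.comp_apply, app_toLim, hts]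
    exact sub_self _
  obtain ⟨k, g, hg⟩ := exists_toStage_eq_zero U hc hU f _ h0
  rw [map_sub, sub_eq_zero, ← CommRingCat.comp_apply, app_toStage] at hg
  refine ⟨k, g ≫ f, ?_⟩
  rintro ⟨y, hy⟩
  have hyV : y ∈ D.map (g ≫ f) ⁻¹ᵁ U := show D.map (g ≫ f) y ∈ U by rw [hy]; exact hxU
  have hcomap := IsAffineOpen.comap_primeIdealOf_appLE (f := D.map (g ≫ f)) U hU
    (D.map (g ≫ f) ⁻¹ᵁ U) (hU.preimage _) le_rfl hyV
  have heq : (⟨D.map (g ≫ f) y, hyV⟩ : U) = ⟨x, hxU⟩ := Subtype.ext hy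
  rw [heq, ← Scheme.Hom.app_eq_appLE] at hcomap
  apply hsP
  show s ∈ (hU.primeIdealOf ⟨x, hxU⟩).asIdeal
  rw [← hcomap]
  show (D.map (g ≫ f)).app U s ∈ ((hU.preimage (D.map (g ≫ f))).primeIdealOf ⟨y, hyV⟩).asIdeal
  rw [hg]
  have hle : P.map ((D.map (g ≫ f)).app U).hom ≤
      ((hU.preimage (D.map (g ≫ f))).primeIdealOf ⟨y, hyV⟩).asIdeal := by
    rw [Ideal.map_le_iff_le_comap]
    exact (congrArg PrimeSpectrum.asIdeal hcomap).ge
  apply hle
  rw [← app_toStage U f g, CommRingCat.hom_comp, ← Ideal.map_map]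
  exact Ideal.mem_map_of_mem _ ht

omit hU in
/-- A point of the locally Noetherian limit is cut out by its image at some stage. -/
lemma exists_stage_cut_out [IsLocallyNoetherian c.pt] (z : c.pt) :
    ∃ (j : I) (f : j ⟶ i), (∀ y, c.π.app j y = c.π.app j z → z ⤳ y) ∧
      (IsLocalRing.maximalIdeal ((D.obj j).presheaf.stalk (c.π.app j z))).map
        ((c.π.app j).stalkMap z).hom = IsLocalRing.maximalIdeal (c.pt.presheaf.stalk z) := by
  obtain ⟨_, ⟨U, hU, rfl⟩, hzU, -⟩ :=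
    (D.obj i).isBasis_affineOpens.exists_subset_of_mem_open (Set.mem_univ (c.π.app i z)) isOpen_univ
  have hW : IsAffineOpen (c.π.app i ⁻¹ᵁ U) := by
    have := isAffineHom_π_app D c hc i
    exact hU.preimage _
  have hzW : z ∈ c.π.app i ⁻¹ᵁ U := hzU
  have : IsNoetherianRing Γ(((Functor.const I).obj c.pt).obj i, c.π.app i ⁻¹ᵁ U) :=
    IsLocallyNoetherian.component_noetherian (X := c.pt) ⟨_, hW⟩
  set q := (hW.primeIdealOf ⟨z, hzW⟩).asIdeal with hq
  obtain ⟨G, hG⟩ := (IsNoetherian.noetherian q : q.FG)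
  -- lift the generators to one stage
  have hlift : ∀ G' : Finset Γ(c.pt, c.π.app i ⁻¹ᵁ U),
      ∃ (j : I) (f : j ⟶ i), ∀ s ∈ G', ∃ t, toLim c U f t = s := by
    classical
    intro G'
    induction G' using Finset.induction_on with
    | empty => exact ⟨i, 𝟙 i, fun _ h => absurd h (Finset.notMem_empty _)⟩
    | insert s G' _ ih =>
      obtain ⟨j₁, f₁, h₁⟩ := ih
      obtain ⟨j₂, f₂, t₂, ht₂⟩ := exists_toLim_eq U hc hU s
      obtain ⟨k, g₁, g₂, e⟩ := IsCofiltered.cospan f₁ f₂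
      refine ⟨k, g₁ ≫ f₁, fun s' hs' => ?_⟩
      rcases Finset.mem_insert.mp hs' with rfl | hs'
      · have key : ∀ (f : k ⟶ i) (_ : f = g₂ ≫ f₂), ∃ t, toLim c U f t = s' := by
          rintro f rfl
          exact ⟨toStage U f₂ g₂ t₂, by rw [← CommRingCat.comp_apply, toStage_toLim, ht₂]⟩
        exact key _ e
      · obtain ⟨t, ht⟩ := h₁ s' hs'
        exact ⟨toStage U f₁ g₁ t, by rw [← CommRingCat.comp_apply, toStage_toLim, ht]⟩
  obtain ⟨j, f, hgen⟩ := hlift G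
  refine ⟨j, f, ?_⟩
  set V := D.map f ⁻¹ᵁ U
  have hV : IsAffineOpen V := hU.preimage _
  have hzV : c.π.app j z ∈ V := le_preimage_π c U f hzW
  set p := (hV.primeIdealOf ⟨c.π.app j z, hzV⟩).asIdeal
  have hcomap : ∀ (y : c.pt) (hy : y ∈ c.π.app i ⁻¹ᵁ U),
      (hW.primeIdealOf ⟨y, hy⟩).asIdeal.comap (toLim c U f).hom =
        (hV.primeIdealOf ⟨c.π.app j y, le_preimage_π c U f hy⟩).asIdeal :=
    fun y hy => congrArg PrimeSpectrum.asIdeal
      (IsAffineOpen.comap_primeIdealOf_appLE V hV _ hW (le_preimage_π c U f) hy)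
  have hqp : q ≤ p.map (toLim c U f).hom := by
    rw [← hG, Submodule.span_le]
    intro s hs
    obtain ⟨t, rfl⟩ := hgen s hs
    refine Ideal.mem_map_of_mem _ ?_
    show t ∈ p
    have : t ∈ q.comap (toLim c U f).hom := hG ▸ Submodule.subset_span hs
    rwa [hq, hcomap z hzW] at this
  constructor
  · intro y hy
    have hyW : y ∈ c.π.app i ⁻¹ᵁ U := by
      have := congrArg (D.map f) hy
      rw [← Scheme.Hom.comp_apply, ← Scheme.Hom.comp_apply, c.w] at this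
      show c.π.app i y ∈ U
      rw [this]; exact hzU
    have hle : q ≤ (hW.primeIdealOf ⟨y, hyW⟩).asIdeal := by
      refine hqp.trans (Ideal.map_le_iff_le_comap.mpr ?_)
      rw [hcomap y hyW]
      simp only [hy]
      exact le_rfl
    have h1 := (((PrimeSpectrum.le_iff_specializes (hW.primeIdealOf ⟨z, hzW⟩)
      (hW.primeIdealOf ⟨y, hyW⟩)).mp hle)).map hW.fromSpec.continuous
    rwa [hW.fromSpec_primeIdealOf, hW.fromSpec_primeIdealOf] at h1
  · refine le_antisymm (Ideal.map_le_iff_le_comap.mpr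
      (((IsLocalRing.local_hom_TFAE ((c.π.app j).stalkMap z).hom).out 0 3).mp
        (inferInstance : IsLocalHom ((c.π.app j).stalkMap z).hom))) ?_
    let : Algebra Γ(((Functor.const I).obj c.pt).obj i, c.π.app i ⁻¹ᵁ U) (c.pt.presheaf.stalk z) :=
      c.pt.presheaf.algebra_section_stalk ⟨z, hzW⟩
    have : IsLocalization.AtPrime (c.pt.presheaf.stalk z) q := hW.isLocalization_stalk ⟨z, hzW⟩
    rw [← IsLocalization.AtPrime.map_eq_maximalIdeal q (c.pt.presheaf.stalk z), Ideal.map_le_iff_le_comap]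
    refine hqp.trans (Ideal.map_le_iff_le_comap.mpr fun t ht => ?_)
    show c.pt.presheaf.germ _ z hzW (toLim c U f t) ∈
      (IsLocalRing.maximalIdeal ((D.obj j).presheaf.stalk (c.π.app j z))).map
        ((c.π.app j).stalkMap z).hom
    have hgerm : c.pt.presheaf.germ _ z hzW (toLim c U f t) =
        ((c.π.app j).stalkMap z) ((D.obj j).presheaf.germ V (c.π.app j z) hzV t) := by
      simp only [toLim, Scheme.Hom.appLE, CommRingCat.comp_apply,
        Scheme.Hom.germ_stalkMap_apply]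
      exact c.pt.presheaf.germ_res_apply _ _ _ _
    rw [hgerm]
    refine Ideal.mem_map_of_mem _ ?_
    let := (D.obj j).presheaf.algebra_section_stalk ⟨c.π.app j z, hzV⟩
    have : IsLocalization.AtPrime ((D.obj j).presheaf.stalk (c.π.app j z)) p :=
      hV.isLocalization_stalk ⟨c.π.app j z, hzV⟩
    rw [← IsLocalization.AtPrime.map_eq_maximalIdeal p ((D.obj j).presheaf.stalk (c.π.app j z))]
    exact Ideal.mem_map_of_mem _ ht

end Groth.CycleLimits
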